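import Cfsg.Prelude.Def_SporadicCombinatorics

/-!
The monomial automorphism group of the hexacode.
-/

set_option autoImplicit false
open Cfsg

namespace Cfsg.Agent.Hexacode.Core

section generic

variable {F : Type*} [Field F] {ω : F}

theorem mem_iff (h2 : (2 : F) = 0) (hω : ω ^ 2 + ω + 1 = 0) (x : Fin 6 → F) :
    x ∈ hexacode F ω ↔ x 3 = x 0 + x 1 + x 2 ∧ x 4 = ω ^ 2 * x 0 + ω * x 1 + x 2 ∧
      x 5 = ω * x 0 + ω ^ 2 * x 1 + x 2 := by
  have e : x ∈ hexacode F ω ↔ ∃ a b c : F, a • ![ω, ω ^ 2, ω ^ 2, ω, ω ^ 2, ω] +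
      b • ![ω ^ 2, ω, ω, ω ^ 2, ω ^ 2, ω] + c • ![ω ^ 2, ω, ω ^ 2, ω, ω, ω ^ 2] = x := by
    rw [hexacode, Submodule.mem_span_triple]
  rw [e]
  constructor
  · rintro ⟨a, b, c, rfl⟩
    refine ⟨?_, ?_, ?_⟩
    · change a * ω + b * ω ^ 2 + c * ω = (a * ω + b * ω ^ 2 + c * ω ^ 2) +
        (a * ω ^ 2 + b * ω + c * ω) + (a * ω ^ 2 + b * ω + c * ω ^ 2)
      grind
    · change a * ω ^ 2 + b * ω ^ 2 + c * ω = ω ^ 2 * (a * ω + b * ω ^ 2 + c * ω ^ 2) +
        ω * (a * ω ^ 2 + b * ω + c * ω) + (a * ω ^ 2 + b * ω + c * ω ^ 2)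
      grind
    · change a * ω + b * ω + c * ω ^ 2 = ω * (a * ω + b * ω ^ 2 + c * ω ^ 2) +
        ω ^ 2 * (a * ω ^ 2 + b * ω + c * ω) + (a * ω ^ 2 + b * ω + c * ω ^ 2)
      grind
  · rintro ⟨h3, h4, h5⟩
    refine ⟨ω * x 0 + ω ^ 2 * x 1, ω ^ 2 * x 0 + ω ^ 2 * x 1 + x 2, x 1 + x 2, ?_⟩
    generalize ha : ω * x 0 + ω ^ 2 * x 1 = a
    generalize hb : ω ^ 2 * x 0 + ω ^ 2 * x 1 + x 2 = b
    generalize hc : x 1 + x 2 = c
    funext i
    fin_cases i
    · change a * ω + b * ω ^ 2 + c * ω ^ 2 = x 0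
      grind
    · change a * ω ^ 2 + b * ω + c * ω = x 1
      grind
    · change a * ω ^ 2 + b * ω + c * ω ^ 2 = x 2
      grind
    · change a * ω + b * ω ^ 2 + c * ω = x 3
      grind
    · change a * ω ^ 2 + b * ω ^ 2 + c * ω = x 4
      grind
    · change a * ω + b * ω + c * ω ^ 2 = x 5
      grind

/-- Decoding of the codes `0, 1, 2, 3` as `0, 1, ω, ω ^ 2`. -/
def dec (ω : F) : ℕ → F
  | 0 => 0
  | 1 => 1
  | 2 => ω
  | _ => ω ^ 2

/-- Multiplication of codes. -/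
def mulc (a b : ℕ) : ℕ := if a = 0 ∨ b = 0 then 0 else (a + b - 2) % 3 + 1

theorem mulc_lt (a b : ℕ) : mulc a b < 4 := by
  unfold mulc
  split_ifs
  · norm_num
  · have := Nat.mod_lt (a + b - 2) (show 0 < 3 by norm_num)
    omega

theorem xor_lt {a b : ℕ} (ha : a < 4) (hb : b < 4) : a ^^^ b < 4 :=
  Nat.xor_lt_two_pow (n := 2) ha hb

theorem dec_mulc (h2 : (2 : F) = 0) (hω : ω ^ 2 + ω + 1 = 0) {a b : ℕ} (ha : a < 4) (hb : b < 4) :
    dec ω (mulc a b) = dec ω a * dec ω b := by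
  interval_cases a <;> interval_cases b <;> simp [mulc, dec] <;> grind

theorem dec_xor (h2 : (2 : F) = 0) (hω : ω ^ 2 + ω + 1 = 0) {a b : ℕ} (ha : a < 4) (hb : b < 4) :
    dec ω (a ^^^ b) = dec ω a + dec ω b := by
  interval_cases a <;> interval_cases b <;> simp [dec] <;> grind

/-- The systematic basis rows of the hexacode, as codes. -/
def rowc (k : ℕ) (i : Fin 6) : ℕ :=
  match k with
  | 0 => (![1, 0, 0, 1, 3, 2] : Fin 6 → ℕ) i
  | 1 => (![0, 1, 0, 1, 2, 3] : Fin 6 → ℕ) i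
  | _ => (![0, 0, 1, 1, 1, 1] : Fin 6 → ℕ) i

/-- The parity check equations on codes. -/
def chk (v : Fin 6 → ℕ) : Bool :=
  v 3 == (v 0 ^^^ v 1 ^^^ v 2) && v 4 == (mulc 3 (v 0) ^^^ mulc 2 (v 1) ^^^ v 2) &&
    v 5 == (mulc 2 (v 0) ^^^ mulc 3 (v 1) ^^^ v 2)

theorem dec_mem_of_chk (h2 : (2 : F) = 0) (hω : ω ^ 2 + ω + 1 = 0) (v : Fin 6 → ℕ)
    (hv : ∀ i, v i < 4) (h : chk v = true) : (fun i => dec ω (v i)) ∈ hexacode F ω := by
  rw [mem_iff h2 hω]
  simp only [chk, Bool.and_eq_true, beq_iff_eq] at h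
  obtain ⟨⟨h3, h4⟩, h5⟩ := h
  have d2 : dec ω 2 = ω := rfl
  have d3 : dec ω 3 = ω ^ 2 := rfl
  refine ⟨?_, ?_, ?_⟩
  · rw [h3, dec_xor h2 hω (xor_lt (hv 0) (hv 1)) (hv 2), dec_xor h2 hω (hv 0) (hv 1)]
  · rw [h4, dec_xor h2 hω (xor_lt (mulc_lt _ _) (mulc_lt _ _)) (hv 2),
      dec_xor h2 hω (mulc_lt _ _) (mulc_lt _ _), dec_mulc h2 hω (by norm_num) (hv 0),
      dec_mulc h2 hω (by norm_num) (hv 1), d2, d3]
  · rw [h5, dec_xor h2 hω (xor_lt (mulc_lt _ _) (mulc_lt _ _)) (hv 2),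
      dec_xor h2 hω (mulc_lt _ _) (mulc_lt _ _), dec_mulc h2 hω (by norm_num) (hv 0),
      dec_mulc h2 hω (by norm_num) (hv 1), d2, d3]

theorem rowc_lt (k : ℕ) (i : Fin 6) : rowc k i < 4 := by
  unfold rowc
  split <;> fin_cases i <;> decide

theorem row_mem (h2 : (2 : F) = 0) (hω : ω ^ 2 + ω + 1 = 0) (k : ℕ) (hk : k < 3) :
    (fun i => dec ω (rowc k i)) ∈ hexacode F ω := by
  apply dec_mem_of_chk h2 hω _ (rowc_lt k)
  interval_cases k <;> decide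

/-- Every codeword is a combination of the three rows. -/
theorem eq_sum_rows (h2 : (2 : F) = 0) (hω : ω ^ 2 + ω + 1 = 0) {x : Fin 6 → F}
    (hx : x ∈ hexacode F ω) : x = fun i => x 0 * dec ω (rowc 0 i) + x 1 * dec ω (rowc 1 i) +
      x 2 * dec ω (rowc 2 i) := by
  obtain ⟨h3, h4, h5⟩ := (mem_iff h2 hω x).1 hx
  funext i
  fin_cases i
  · change x 0 = x 0 * 1 + x 1 * 0 + x 2 * 0
    ring
  · change x 1 = x 0 * 0 + x 1 * 1 + x 2 * 0
    ring
  · change x 2 = x 0 * 0 + x 1 * 0 + x 2 * 1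
    ring
  · change x 3 = x 0 * 1 + x 1 * 1 + x 2 * 1
    rw [h3]
    ring
  · change x 4 = x 0 * ω ^ 2 + x 1 * ω + x 2 * 1
    rw [h4]
    ring
  · change x 5 = x 0 * ω + x 1 * ω ^ 2 + x 2 * 1
    rw [h5]
    ring

/-- A monomial map preserves the hexacode. -/
def Good (ω : F) (σ : Equiv.Perm (Fin 6)) (c : Fin 6 → Fˣ) : Prop :=
  ∀ x ∈ hexacode F ω, monomialMap σ c x ∈ hexacode F ω

theorem good_of_rows (h2 : (2 : F) = 0) (hω : ω ^ 2 + ω + 1 = 0) (σ : Equiv.Perm (Fin 6))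
    (c : Fin 6 → Fˣ)
    (h : ∀ k < 3, monomialMap σ c (fun i => dec ω (rowc k i)) ∈ hexacode F ω) : Good ω σ c := by
  intro x hx
  have e := eq_sum_rows h2 hω hx
  have h0 := (hexacode F ω).smul_mem (x 0) (h 0 (by norm_num))
  have h1 := (hexacode F ω).smul_mem (x 1) (h 1 (by norm_num))
  have h2' := (hexacode F ω).smul_mem (x 2) (h 2 (by norm_num))
  have h3 := (hexacode F ω).add_mem ((hexacode F ω).add_mem h0 h1) h2'
  convert h3 using 1
  funext i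
  change (c i : F) * x (σ.symm i) = x 0 * ((c i : F) * dec ω (rowc 0 (σ.symm i))) +
    x 1 * ((c i : F) * dec ω (rowc 1 (σ.symm i))) + x 2 * ((c i : F) * dec ω (rowc 2 (σ.symm i)))
  have e' := congrFun e (σ.symm i)
  rw [e']
  ring

theorem good_one : Good ω 1 (fun _ => 1) := by
  intro x hx
  have : monomialMap 1 (fun _ => (1 : Fˣ)) x = x := by
    funext i
    change ((1 : Fˣ) : F) * x i = x i
    simp
  rw [this]
  exact hx

theorem monomialMap_mul (σ τ : Equiv.Perm (Fin 6)) (c d : Fin 6 → Fˣ) (x : Fin 6 → F) :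
    monomialMap (σ * τ) (fun i => c i * d (σ.symm i)) x =
      monomialMap σ c (monomialMap τ d x) := by
  funext i
  change ((c i * d (σ.symm i) : Fˣ) : F) * x (τ.symm (σ.symm i)) =
    (c i : F) * ((d (σ.symm i) : F) * x (τ.symm (σ.symm i)))
  rw [Units.val_mul]
  ring

theorem Good.mul {σ τ : Equiv.Perm (Fin 6)} {c d : Fin 6 → Fˣ} (h1 : Good ω σ c)
    (h2 : Good ω τ d) : Good ω (σ * τ) (fun i => c i * d (σ.symm i)) := by
  intro x hx
  rw [monomialMap_mul]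
  exact h1 _ (h2 _ hx)

theorem monomialMap_injective (σ : Equiv.Perm (Fin 6)) (c : Fin 6 → Fˣ) :
    Function.Injective (monomialMap σ c) := by
  intro x y hxy
  funext i
  have h := congrFun hxy (σ i)
  change (c (σ i) : F) * x (σ.symm (σ i)) = (c (σ i) : F) * y (σ.symm (σ i)) at h
  rw [Equiv.symm_apply_apply] at h
  exact mul_left_cancel₀ (Units.ne_zero _) h

theorem Good.surj [Finite F] {σ : Equiv.Perm (Fin 6)} {c : Fin 6 → Fˣ} (h : Good ω σ c)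
    {x : Fin 6 → F} (hx : x ∈ hexacode F ω) : ∃ y ∈ hexacode F ω, monomialMap σ c y = x := by
  let f : hexacode F ω → hexacode F ω := fun y => ⟨monomialMap σ c y, h _ y.2⟩
  have hf : Function.Injective f := by
    intro y z hyz
    apply Subtype.ext
    exact monomialMap_injective σ c (congrArg Subtype.val hyz)
  obtain ⟨y, hy⟩ := Finite.surjective_of_injective hf ⟨x, hx⟩
  exact ⟨y, y.2, congrArg Subtype.val hy⟩

theorem diag_const (h2 : (2 : F) = 0) (hω : ω ^ 2 + ω + 1 = 0) {c : Fin 6 → Fˣ}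
    (h : Good ω 1 c) (i j : Fin 6) : c i = c j := by
  have hω0 : ω ≠ 0 := by
    rintro rfl
    simp at hω
  have k0 := (mem_iff h2 hω _).1 (h _ (row_mem h2 hω 0 (by norm_num)))
  have k1 := (mem_iff h2 hω _).1 (h _ (row_mem h2 hω 1 (by norm_num)))
  have k2 := (mem_iff h2 hω _).1 (h _ (row_mem h2 hω 2 (by norm_num)))
  change (c 3 : F) * 1 = c 0 * 1 + c 1 * 0 + c 2 * 0 ∧
    (c 4 : F) * ω ^ 2 = ω ^ 2 * (c 0 * 1) + ω * (c 1 * 0) + c 2 * 0 ∧
    (c 5 : F) * ω = ω * (c 0 * 1) + ω ^ 2 * (c 1 * 0) + c 2 * 0 at k0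
  change (c 3 : F) * 1 = c 0 * 0 + c 1 * 1 + c 2 * 0 ∧
    (c 4 : F) * ω = ω ^ 2 * (c 0 * 0) + ω * (c 1 * 1) + c 2 * 0 ∧
    (c 5 : F) * ω ^ 2 = ω * (c 0 * 0) + ω ^ 2 * (c 1 * 1) + c 2 * 0 at k1
  change (c 3 : F) * 1 = c 0 * 0 + c 1 * 0 + c 2 * 1 ∧
    (c 4 : F) * 1 = ω ^ 2 * (c 0 * 0) + ω * (c 1 * 0) + c 2 * 1 ∧
    (c 5 : F) * 1 = ω * (c 0 * 0) + ω ^ 2 * (c 1 * 0) + c 2 * 1 at k2
  have key : ∀ i, (c i : F) = c 0 := by
    have e30 : (c 3 : F) = c 0 := by linear_combination k0.1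
    have e31 : (c 3 : F) = c 1 := by linear_combination k1.1
    have e32 : (c 3 : F) = c 2 := by linear_combination k2.1
    have e42 : (c 4 : F) = c 2 := by linear_combination k2.2.1
    have e52 : (c 5 : F) = c 2 := by linear_combination k2.2.2
    intro i
    fin_cases i
    · rfl
    · exact e31.symm.trans e30
    · exact e32.symm.trans e30
    · exact e30
    · exact e42.trans (e32.symm.trans e30)
    · exact e52.trans (e32.symm.trans e30)
  apply Units.ext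
  rw [key i, key j]

theorem not_good_swap (h2 : (2 : F) = 0) (hω : ω ^ 2 + ω + 1 = 0) (c : Fin 6 → Fˣ) :
    ¬ Good ω (Equiv.swap 0 1) c := by
  intro h
  have hω0 : ω ≠ 0 := by
    rintro rfl
    simp at hω
  have hω1 : ω ≠ 1 := by
    rintro rfl
    have : (1 : F) = 0 := by linear_combination hω - h2
    exact one_ne_zero this
  have k0 := (mem_iff h2 hω _).1 (h _ (row_mem h2 hω 0 (by norm_num)))
  have k2 := (mem_iff h2 hω _).1 (h _ (row_mem h2 hω 2 (by norm_num)))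
  have s0 : (Equiv.swap (0 : Fin 6) 1).symm 0 = 1 := by decide
  have s1 : (Equiv.swap (0 : Fin 6) 1).symm 1 = 0 := by decide
  have s2 : (Equiv.swap (0 : Fin 6) 1).symm 2 = 2 := by decide
  have s3 : (Equiv.swap (0 : Fin 6) 1).symm 3 = 3 := by decide
  have s4 : (Equiv.swap (0 : Fin 6) 1).symm 4 = 4 := by decide
  have s5 : (Equiv.swap (0 : Fin 6) 1).symm 5 = 5 := by decide
  simp only [monomialMap, s0, s1, s2, s3, s4, s5] at k0 k2
  change (c 3 : F) * 1 = c 0 * 0 + c 1 * 1 + c 2 * 0 ∧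
    (c 4 : F) * ω ^ 2 = ω ^ 2 * (c 0 * 0) + ω * (c 1 * 1) + c 2 * 0 ∧
    (c 5 : F) * ω = ω * (c 0 * 0) + ω ^ 2 * (c 1 * 1) + c 2 * 0 at k0
  change (c 3 : F) * 1 = c 0 * 0 + c 1 * 0 + c 2 * 1 ∧
    (c 4 : F) * 1 = ω ^ 2 * (c 0 * 0) + ω * (c 1 * 0) + c 2 * 1 ∧
    (c 5 : F) * 1 = ω * (c 0 * 0) + ω ^ 2 * (c 1 * 0) + c 2 * 1 at k2
  have e1 : (c 1 : F) = c 2 := by linear_combination k2.1 - k0.1
  have e4 : (c 4 : F) = c 2 := by linear_combination k2.2.1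
  have e5 := k0.2.1
  rw [e4, e1] at e5
  have e6 : (c 2 : F) * (ω * (ω - 1)) = 0 := by linear_combination e5
  rcases mul_eq_zero.1 e6 with e7 | e7
  · exact (c 2).ne_zero e7
  · rcases mul_eq_zero.1 e7 with e8 | e8
    · exact hω0 e8
    · exact hω1 (sub_eq_zero.1 e8)

/-- The table of lifts of the three-cycles `swap a b * swap b c`. -/
def liftTab : List ℕ := [
    0, 0, 0, 0, 0, 0, 0, 0, 2901, 3669, 1461, 1509, 0, 3669, 0, 2901, 2925, 2937, 0, 2901, 3669,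
    0, 3801, 3741, 0, 1509, 1725, 1977, 0, 1461, 0, 1461, 3561, 2541, 1509, 0, 0, 0, 3669, 2901,
    1509, 1461, 0, 0, 0, 0, 0, 0, 2901, 0, 0, 3669, 2541, 1977, 3669, 0, 2901, 0, 3561, 1725,
    1461, 0, 3741, 2937, 0, 1509, 1509, 0, 3801, 2925, 1461, 0, 0, 2901, 0, 3669, 1725, 3561,
    3669, 0, 0, 2901, 3741, 3801, 0, 0, 0, 0, 0, 0, 2901, 3669, 0, 0, 2733, 4089, 2925, 2541, 0,
    4089, 0, 2733, 2937, 1977, 0, 2733, 4089, 0, 0, 3669, 2901, 0, 1977, 2541, 2901, 0, 3669, 0,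
    2937, 2925, 3669, 2901, 0, 0, 4089, 2733, 0, 0, 0, 0, 0, 0, 3801, 3561, 2733, 0, 0, 4089,
    3741, 1725, 4089, 0, 2733, 0, 0, 1461, 2925, 3801, 0, 1509, 1509, 0, 2541, 3561, 0, 1461,
    1725, 3741, 0, 2733, 0, 4089, 1977, 2937, 4089, 0, 0, 2733, 0, 0, 0, 0, 0, 0, 1461, 1509,
    2733, 4089, 0, 0, 0, 1509, 2937, 3741, 1461, 0, 1461, 0, 1977, 1725, 1509, 0, 3561, 3801, 0,
    4089, 2733, 0, 2541, 2925, 2733, 0, 4089, 0, 1509, 1461, 4089, 2733, 0, 0, 0, 0, 0, 0, 0, 0]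

/-- The code of the scalar at position `i` in the lift of `swap a b * swap b c`. -/
def liftc (a b c i : Fin 6) : ℕ := liftTab.getD (36 * a.1 + 6 * b.1 + c.1) 0 / 4 ^ i.1 % 4

theorem liftc_lt (a b c i : Fin 6) : liftc a b c i < 4 := Nat.mod_lt _ (by norm_num)

theorem liftc_spec : ∀ a b c : Fin 6, a ≠ b → a ≠ c → b ≠ c →
    (∀ i, liftc a b c i ≠ 0) ∧ ∀ k < 3, chk (fun i => mulc (liftc a b c i)
      (rowc k ((Equiv.swap a b * Equiv.swap b c).symm i))) = true := by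
  decide +kernel

theorem dec_ne_zero (hω0 : ω ≠ 0) {n : ℕ} (hn : n ≠ 0) : dec ω n ≠ 0 := by
  match n, hn with
  | 1, _ => exact one_ne_zero
  | 2, _ => exact hω0
  | (_ + 3), _ => exact pow_ne_zero 2 hω0

theorem threeCycle_lift (h2 : (2 : F) = 0) (hω : ω ^ 2 + ω + 1 = 0) (a b c : Fin 6)
    (hab : a ≠ b) (hac : a ≠ c) (hbc : b ≠ c) :
    ∃ d, Good ω (Equiv.swap a b * Equiv.swap b c) d := by
  have hω0 : ω ≠ 0 := by
    rintro rfl
    simp at hω
  obtain ⟨h0, hk⟩ := liftc_spec a b c hab hac hbc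
  refine ⟨fun i => Units.mk0 (dec ω (liftc a b c i)) (dec_ne_zero hω0 (h0 i)), ?_⟩
  apply good_of_rows h2 hω
  intro k hk3
  have h1 := dec_mem_of_chk h2 hω _ (fun i => mulc_lt _ _) (hk k hk3)
  convert h1 using 1
  funext i
  rw [dec_mulc h2 hω (liftc_lt _ _ _ _) (rowc_lt _ _)]
  rfl

/-- The permutations that lift to the hexacode. -/
def liftable (F : Type*) [Field F] (ω : F) : Set (Equiv.Perm (Fin 6)) :=
  {σ | ∃ c : Fin 6 → Fˣ, Good ω σ c}

theorem one_mem : (1 : Equiv.Perm (Fin 6)) ∈ liftable F ω := ⟨_, good_one⟩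

theorem mul_mem {σ τ : Equiv.Perm (Fin 6)} (h1 : σ ∈ liftable F ω) (h2 : τ ∈ liftable F ω) :
    σ * τ ∈ liftable F ω := by
  obtain ⟨c, hc⟩ := h1
  obtain ⟨d, hd⟩ := h2
  exact ⟨_, hc.mul hd⟩

theorem pow_mem {σ : Equiv.Perm (Fin 6)} (h1 : σ ∈ liftable F ω) (n : ℕ) :
    σ ^ n ∈ liftable F ω := by
  induction n with
  | zero => rw [pow_zero]; exact one_mem
  | succ n ih => rw [pow_succ]; exact mul_mem ih h1

theorem inv_mem {σ : Equiv.Perm (Fin 6)} (h1 : σ ∈ liftable F ω) : σ⁻¹ ∈ liftable F ω := by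
  have h : σ⁻¹ = σ ^ (orderOf σ - 1) := by
    rw [inv_eq_iff_mul_eq_one, ← pow_succ', Nat.sub_add_cancel (orderOf_pos σ), pow_orderOf_eq_one]
  rw [h]
  exact pow_mem h1 _

/-- The subgroup of liftable permutations. -/
def liftGroup (F : Type*) [Field F] (ω : F) : Subgroup (Equiv.Perm (Fin 6)) where
  carrier := liftable F ω
  one_mem' := one_mem
  mul_mem' := mul_mem
  inv_mem' := inv_mem

theorem alternating_le (h2 : (2 : F) = 0) (hω : ω ^ 2 + ω + 1 = 0) :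
    alternatingGroup (Fin 6) ≤ liftGroup F ω := by
  rw [← Equiv.Perm.closure_three_cycles_eq_alternating, Subgroup.closure_le]
  intro σ hσ
  have hσ' : σ.IsThreeCycle := hσ
  have hne := hσ'.isCycle.ne_one
  obtain ⟨a, ha⟩ : ∃ a, a ∈ σ.support := by
    rw [← Finset.Nonempty, Finset.nonempty_iff_ne_empty]
    intro h
    exact hne (Equiv.Perm.support_eq_empty_iff.1 h)
  have e := hσ'.eq_swap_mul_swap_iff_mem_support.2 ha
  have hn := hσ'.nodup_iff_mem_support.2 ha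
  rw [e]
  simp only [List.nodup_cons, List.mem_cons, List.not_mem_nil, or_false, not_or,
    List.nodup_nil, and_true, not_false_eq_true] at hn
  exact threeCycle_lift h2 hω a (σ a) (σ (σ a)) hn.1.1 hn.1.2 hn.2

theorem liftGroup_eq (h2 : (2 : F) = 0) (hω : ω ^ 2 + ω + 1 = 0) :
    liftGroup F ω = alternatingGroup (Fin 6) := by
  apply le_antisymm _ (alternating_le h2 hω)
  intro σ hσ
  by_contra hn
  have hs : Equiv.Perm.sign σ = -1 := by
    rcases Int.units_eq_one_or (Equiv.Perm.sign σ) with h | h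
    · exact absurd (Equiv.Perm.mem_alternatingGroup.2 h) hn
    · exact h
  have h1 : Equiv.swap 0 1 * σ ∈ alternatingGroup (Fin 6) := by
    rw [Equiv.Perm.mem_alternatingGroup, Equiv.Perm.sign_mul, hs,
      Equiv.Perm.sign_swap (by decide : (0 : Fin 6) ≠ 1)]
    rfl
  have h3 := (liftGroup F ω).mul_mem (alternating_le h2 hω h1) ((liftGroup F ω).inv_mem hσ)
  rw [mul_inv_cancel_right] at h3
  obtain ⟨c, hc⟩ := h3
  exact not_good_swap h2 hω c hc

/-- Two lifts of the same permutation differ by a scalar. -/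
theorem lift_unique [Finite F] (h2 : (2 : F) = 0) (hω : ω ^ 2 + ω + 1 = 0)
    {σ : Equiv.Perm (Fin 6)} {c d : Fin 6 → Fˣ} (hc : Good ω σ c) (hd : Good ω σ d) :
    ∃ u : Fˣ, c = fun i => u * d i := by
  have h : Good ω 1 (fun i => c i * (d i)⁻¹) := by
    intro x hx
    obtain ⟨y, hy, rfl⟩ := hd.surj hx
    convert hc y hy using 1
    funext i
    change ((c i * (d i)⁻¹ : Fˣ) : F) * ((d i : F) * y (σ.symm i)) = (c i : F) * y (σ.symm i)
    rw [← mul_assoc, ← Units.val_mul, inv_mul_cancel_right]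
  refine ⟨c 0 * (d 0)⁻¹, ?_⟩
  funext i
  have h3 : c i * (d i)⁻¹ = c 0 * (d 0)⁻¹ := diag_const h2 hω h i 0
  rw [← h3, inv_mul_cancel_right]

theorem Good.smul {σ : Equiv.Perm (Fin 6)} {c : Fin 6 → Fˣ} (hc : Good ω σ c) (u : Fˣ) :
    Good ω σ (fun i => u * c i) := by
  intro x hx
  have h := (hexacode F ω).smul_mem (u : F) (hc x hx)
  convert h using 1
  funext i
  change ((u * c i : Fˣ) : F) * x (σ.symm i) = (u : F) * ((c i : F) * x (σ.symm i))
  rw [Units.val_mul, mul_assoc]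

theorem card_monomial [Finite F] (h2 : (2 : F) = 0) (hω : ω ^ 2 + ω + 1 = 0) :
    Nat.card {f : Equiv.Perm (Fin 6) × (Fin 6 → Fˣ) // Good ω f.1 f.2} =
      360 * Nat.card Fˣ := by
  have hl : ∀ σ : alternatingGroup (Fin 6), ∃ c : Fin 6 → Fˣ, Good ω (σ : Equiv.Perm (Fin 6)) c :=
    fun σ => alternating_le h2 hω σ.2
  choose l hl using hl
  let f : alternatingGroup (Fin 6) × Fˣ →
      {f : Equiv.Perm (Fin 6) × (Fin 6 → Fˣ) // Good ω f.1 f.2} :=
    fun p => ⟨(p.1, fun i => p.2 * l p.1 i), (hl p.1).smul p.2⟩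
  have hf : Function.Bijective f := by
    constructor
    · rintro ⟨σ, u⟩ ⟨τ, v⟩ h
      have h1 := congrArg Subtype.val h
      have h3 : (σ : Equiv.Perm (Fin 6)) = τ := congrArg Prod.fst h1
      have h4 : σ = τ := Subtype.ext h3
      subst h4
      have h5 : (fun i => u * l σ i) = (fun i => v * l σ i) := congrArg Prod.snd h1
      have h6 := mul_right_cancel (congrFun h5 0)
      rw [h6]
    · rintro ⟨⟨σ, c⟩, hc⟩
      have hσ : σ ∈ liftGroup F ω := ⟨c, hc⟩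
      rw [liftGroup_eq h2 hω] at hσ
      obtain ⟨u, hu⟩ := lift_unique h2 hω hc (hl ⟨σ, hσ⟩)
      refine ⟨(⟨σ, hσ⟩, u), ?_⟩
      apply Subtype.ext
      exact Prod.ext rfl hu.symm
  rw [← Nat.card_congr (Equiv.ofBijective f hf), Nat.card_prod]
  congr 1
  have h3 := two_mul_nat_card_alternatingGroup (α := Fin 6)
  rw [Nat.card_perm, Nat.card_fin] at h3
  have h4 : Nat.factorial 6 = 720 := by decide
  omega

end generic

end Cfsg.Agent.Hexacode.Core
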